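import Mathlib

/-!
# A norm relation in cyclotomic fields

For a prime `l ≥ 7` there is a prime `q` with `2 q s² = m² + 5 n²` and polynomials `a`, `b` with
`a² + q b² + 4 z ^ (l - 1) = 0` for every primitive `l`-th root of unity `z`.  The proof uses the
product of `1 - z ζ ^ r` over quadratic residues `r` modulo `q`, where `q ≡ -1 (mod l)` and
`q ≡ 3 (mod 20)`.
-/

set_option autoImplicit false

namespace Cfsg.Agent.Lib.DivisionUnits.CyclotomicNorm

open Polynomial

set_option linter.style.haveILetI false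

theorem three_not_square : ¬ IsSquare ((3 : ℕ) : ZMod 5) := by decide +kernel

/-- Small solutions of `m² + 5 n² ≡ 0`. -/
theorem exists_small {q : ℕ} (hq : q.Prime) (hq20 : q % 20 = 3) :
    ∃ m n s : ℤ, s ≠ 0 ∧ m ^ 2 + 5 * n ^ 2 = 2 * q * s ^ 2 := by
  haveI := Fact.mk hq
  have h5 : ¬ IsSquare ((5 : ℕ) : ZMod q) := by
    haveI : Fact (Nat.Prime 5) := ⟨Nat.prime_five⟩
    rw [← ZMod.exists_sq_eq_prime_iff_of_mod_four_eq_one (p := 5) (q := q) (by norm_num)
      (by omega)]
    rw [← ZMod.natCast_mod q 5, show q % 5 = 3 by omega]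
    exact three_not_square
  have hne : ringChar (ZMod q) ≠ 2 := by rw [ZMod.ringChar_zmod_n]; omega
  have h50 : ((5 : ℕ) : ZMod q) ≠ 0 := by
    intro h
    rw [ZMod.natCast_eq_zero_iff] at h
    have := (Nat.prime_dvd_prime_iff_eq hq Nat.prime_five).1 h
    omega
  have hneg : IsSquare (-((5 : ℕ) : ZMod q)) := by
    rw [← quadraticChar_one_iff_isSquare (neg_ne_zero.2 h50), neg_eq_neg_one_mul, map_mul,
      quadraticChar_neg_one_iff_not_isSquare.2 h5, quadraticChar_neg_one hne,
      ZMod.card, ZMod.χ₄_nat_three_mod_four (by omega)]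
    norm_num
  obtain ⟨r, hr⟩ := hneg
  set t := Nat.sqrt q with ht
  have hlt : t * t < q := by
    refine lt_of_le_of_ne (Nat.sqrt_le q) fun h => ?_
    exact Nat.not_prime_mul (a := t) (b := t)
      (fun h1 => hq.ne_one (by rw [← h, h1])) (fun h1 => hq.ne_one (by rw [← h, h1])) (h ▸ hq)
  obtain ⟨u, w, huw, he⟩ : ∃ u w : Fin (t + 1) × Fin (t + 1), u ≠ w ∧
      ((u.1 : ℕ) : ZMod q) + r * (u.2 : ℕ) = ((w.1 : ℕ) : ZMod q) + r * (w.2 : ℕ) := by
    refine Fintype.exists_ne_map_eq_of_card_lt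
      (fun u : Fin (t + 1) × Fin (t + 1) => ((u.1 : ℕ) : ZMod q) + r * (u.2 : ℕ)) ?_
    rw [ZMod.card, Fintype.card_prod, Fintype.card_fin]
    exact Nat.lt_succ_sqrt q
  set m : ℤ := ((u.1 : ℕ) : ℤ) - (w.1 : ℕ) with hm
  set n : ℤ := ((u.2 : ℕ) : ℤ) - (w.2 : ℕ) with hn
  have hdvd : (q : ℤ) ∣ m ^ 2 + 5 * n ^ 2 := by
    rw [← ZMod.intCast_zmod_eq_zero_iff_dvd]
    push_cast [hm, hn]
    have h1 : ((u.1 : ℕ) : ZMod q) - (w.1 : ℕ) = -r * (((u.2 : ℕ) : ZMod q) - (w.2 : ℕ)) := by
      linear_combination he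
    rw [h1]
    push_cast at hr
    linear_combination -((((u.2 : ℕ) : ZMod q) - (w.2 : ℕ)) ^ 2) * hr
  obtain ⟨k, hk⟩ := hdvd
  have hmb : m ^ 2 ≤ (t : ℤ) * t := by
    have h1 := u.1.is_lt; have h2 := w.1.is_lt
    have : -(t : ℤ) ≤ m ∧ m ≤ t := by omega
    nlinarith
  have hnb : n ^ 2 ≤ (t : ℤ) * t := by
    have h1 := u.2.is_lt; have h2 := w.2.is_lt
    have : -(t : ℤ) ≤ n ∧ n ≤ t := by omega
    nlinarith
  have hltz : (t : ℤ) * t < q := by exact_mod_cast hlt
  have hpos : 0 < m ^ 2 + 5 * n ^ 2 := by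
    rcases eq_or_ne m 0 with h | h
    · rcases eq_or_ne n 0 with h' | h'
      · refine absurd (Prod.ext (Fin.ext ?_) (Fin.ext ?_)) huw <;> omega
      · positivity
    · positivity
  have hk1 : 0 < k := by
    by_contra h
    nlinarith
  have hk6 : k < 6 := by
    by_contra h
    nlinarith
  have hq5 : (q : ZMod 5) = 3 := by
    rw [← ZMod.natCast_mod q 5, show q % 5 = 3 by omega]; rfl
  have hmod : ((m : ZMod 5)) ^ 2 = 3 * (k : ZMod 5) := by
    have h := congrArg (Int.cast : ℤ → ZMod 5) hk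
    push_cast at h
    rw [show ((5 : ZMod 5)) = 0 from rfl, zero_mul, add_zero, hq5] at h
    exact h
  have hno : ∀ z : ZMod 5, z ^ 2 ≠ 3 * 1 ∧ z ^ 2 ≠ 3 * 4 ∧ (z ^ 2 = 0 → z = 0) := by decide +kernel
  interval_cases k
  · exact absurd (by simpa using hmod) (hno (m : ZMod 5)).1
  · exact ⟨m, n, 1, one_ne_zero, by linarith⟩
  · exact ⟨m - 5 * n, m + n, 3, by norm_num, by linear_combination 6 * hk⟩
  · exact absurd (by simpa using hmod) (hno (m : ZMod 5)).2.1
  · have hm0 : (m : ZMod 5) ^ 2 = 0 := by rw [hmod]; rfl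
    obtain ⟨m', hm'⟩ : (5 : ℤ) ∣ m :=
      (ZMod.intCast_zmod_eq_zero_iff_dvd m 5).1 ((hno _).2.2 hm0)
    exfalso
    have h1 : n ^ 2 + 5 * m' ^ 2 = q := by rw [hm'] at hk; linarith
    have h := congrArg (Int.cast : ℤ → ZMod 5) h1
    push_cast at h
    rw [show ((5 : ZMod 5)) = 0 from rfl, zero_mul, add_zero, hq5] at h
    exact (hno (n : ZMod 5)).1 (by rw [h, mul_one])

variable {q : ℕ} [Fact q.Prime]

/-- The coefficient polynomials of the product over the residues. -/
noncomputable def W (c : ZMod q) : ℤ[X] :=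
  ∑ T ∈ ((Finset.univ.filter fun r : ZMod q => quadraticChar (ZMod q) r = 1).powerset.filter
    fun T => ∑ r ∈ T, r = c), (-X) ^ T.card

theorem W_mul {r : ZMod q} (hr : quadraticChar (ZMod q) r = 1) (c : ZMod q) :
    W (r * c) = W c := by
  classical
  have hr0 : r ≠ 0 := fun h => by rw [h, quadraticChar_zero] at hr; exact zero_ne_one hr
  have hrinv : quadraticChar (ZMod q) r⁻¹ = 1 := by
    have h : quadraticChar (ZMod q) r * quadraticChar (ZMod q) r⁻¹ = 1 := by
      rw [← map_mul, mul_inv_cancel₀ hr0, map_one]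
    rwa [hr, one_mul] at h
  have hmem : ∀ (s : ZMod q), quadraticChar (ZMod q) s = 1 → ∀ (d : ZMod q) (T : Finset (ZMod q)),
      T ∈ (Finset.univ.filter fun a : ZMod q => quadraticChar (ZMod q) a = 1).powerset.filter
        (fun T => ∑ a ∈ T, a = d) →
      T.image (s * ·) ∈ (Finset.univ.filter fun a : ZMod q => quadraticChar (ZMod q) a = 1).powerset.filter
        (fun T => ∑ a ∈ T, a = s * d) := by
    intro s hs d T hT
    have hs0 : s ≠ 0 := fun h => by rw [h, quadraticChar_zero] at hs; exact zero_ne_one hs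
    simp only [Finset.mem_filter, Finset.mem_powerset] at hT ⊢
    refine ⟨fun a ha => ?_, ?_⟩
    · obtain ⟨b, hb, rfl⟩ := Finset.mem_image.1 ha
      have := (Finset.mem_filter.1 (hT.1 hb)).2
      refine Finset.mem_filter.2 ⟨Finset.mem_univ _, ?_⟩
      rw [map_mul, hs, this, one_mul]
    · rw [Finset.sum_image fun a _ b _ h => mul_left_cancel₀ hs0 h, ← Finset.mul_sum, hT.2]
  refine Finset.sum_bij' (fun T _ => T.image (r⁻¹ * ·)) (fun T _ => T.image (r * ·))
    (fun T hT => ?_) (fun T hT => hmem r hr c T hT) (fun T _ => ?_) (fun T _ => ?_) (fun T _ => ?_)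
  · simpa [hr0] using hmem r⁻¹ hrinv (r * c) T hT
  · rw [Finset.image_image]
    simp [Function.comp_def, hr0]
  · rw [Finset.image_image]
    simp [Function.comp_def, hr0]
  · rw [Finset.card_image_of_injective _ (mul_right_injective₀ (inv_ne_zero hr0))]

/-- The norm relation. -/
theorem relation (hq4 : q % 4 = 3) {l : ℕ} (hl : l.Prime) (hql : l ∣ q + 1) :
    ∃ a b : ℤ[X], cyclotomic l ℤ ∣ a ^ 2 + (q : ℤ[X]) * b ^ 2 + 4 * X ^ (l - 1) := by
  classical
  have hq2 : ringChar (ZMod q) ≠ 2 := by rw [ZMod.ringChar_zmod_n]; omega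
  refine ⟨2 * W (0 : ZMod q) - W (1 : ZMod q) - W (-1 : ZMod q), W (1 : ZMod q) - W (-1 : ZMod q), ?_⟩
  obtain ⟨z, hz⟩ : ∃ z : ℂ, IsPrimitiveRoot z l := ⟨_, Complex.isPrimitiveRoot_exp l hl.ne_zero⟩
  rw [cyclotomic_eq_minpoly hz hl.pos]
  refine (minpoly.isIntegrallyClosed_dvd (hz.isIntegral hl.pos) ?_)
  set χ : MulChar (ZMod q) ℂ := (quadraticChar (ZMod q)).ringHomComp (Int.castRingHom ℂ)
  set ψ : AddChar (ZMod q) ℂ := ZMod.stdAddChar
  set g := gaussSum χ ψ
  set R := Finset.univ.filter fun r : ZMod q => quadraticChar (ZMod q) r = 1 with hR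
  have hm1 : quadraticChar (ZMod q) (-1) = -1 := by
    rw [quadraticChar_neg_one hq2, ZMod.card, ZMod.χ₄_nat_three_mod_four hq4]
  have hg : g ^ 2 = -(q : ℂ) := by
    rw [gaussSum_sq ((MulChar.ringHomComp_ne_one_iff (RingHom.injective_int _)).mpr
      (quadraticChar_ne_one hq2)) ((quadraticChar_isQuadratic _).comp _)
      (ZMod.isPrimitive_stdAddChar q), MulChar.ringHomComp_apply, hm1, ZMod.card]
    simp
  have hsum : ∀ ε : ZMod q, ε ≠ 0 → 2 * ∏ r ∈ R, (1 - z * ψ (ε * r)) =
      aeval z (2 * W (0 : ZMod q) - W (1 : ZMod q) - W (-1 : ZMod q)) +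
        (quadraticChar (ZMod q) ε : ℂ) * aeval z (W (1 : ZMod q) - W (-1 : ZMod q)) * g := by
    intro ε hε
    have h1 : ∏ r ∈ R, (1 - z * ψ (ε * r)) = ∑ c : ZMod q, aeval z (W c) * ψ (ε * c) := by
      simp only [sub_eq_add_neg, Finset.prod_one_add]
      rw [← Finset.sum_fiberwise R.powerset (fun T => ∑ r ∈ T, r)]
      refine Finset.sum_congr rfl fun c _ => ?_
      rw [W, map_sum, Finset.sum_mul]
      refine Finset.sum_congr rfl fun T hT => ?_
      have hadd : ∏ r ∈ T, ψ (ε * r) = ψ (ε * c) := by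
        rw [← (Finset.mem_filter.1 hT).2, Finset.mul_sum]
        clear hT
        induction T using Finset.induction_on with
        | empty => simp
        | insert a T ha ih => rw [Finset.prod_insert ha, Finset.sum_insert ha, ψ.map_add_eq_mul, ih]
      rw [Finset.prod_congr rfl fun r _ => (neg_mul z (ψ (ε * r))).symm, Finset.prod_mul_distrib,
        Finset.prod_const, hadd]
      simp
    have hW : ∀ c : ZMod q, c ≠ 0 → 2 * aeval z (W c) = aeval z (W (1 : ZMod q) + W (-1 : ZMod q)) +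
        (quadraticChar (ZMod q) c : ℂ) * aeval z (W (1 : ZMod q) - W (-1 : ZMod q)) := by
      intro c hc
      rcases quadraticChar_dichotomy hc with h | h
      · rw [show W c = W (1 : ZMod q) by simpa using W_mul h 1, h, map_add, map_sub]
        push_cast; ring
      · rw [show W c = W (-1 : ZMod q) by
          simpa using W_mul (show quadraticChar (ZMod q) (-c) = 1 by
            rw [neg_eq_neg_one_mul, map_mul, hm1, h]; norm_num) (-1 : ZMod q), h, map_add, map_sub]
        push_cast; ring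
    have h2 : ∑ c ∈ Finset.univ.erase (0 : ZMod q), ψ (ε * c) = -1 := by
      have h := AddChar.sum_mulShift ε (ZMod.isPrimitive_stdAddChar q)
      rw [if_neg hε, Nat.cast_zero, ← Finset.add_sum_erase _ _ (Finset.mem_univ (0 : ZMod q)),
        zero_mul, AddChar.map_zero_eq_one] at h
      rw [eq_neg_iff_add_eq_zero, add_comm]
      rw [← h]
      exact congrArg _ (Finset.sum_congr rfl fun c _ => by rw [mul_comm])
    have h3 : ∑ c ∈ Finset.univ.erase (0 : ZMod q), (quadraticChar (ZMod q) c : ℂ) * ψ (ε * c) =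
        (quadraticChar (ZMod q) ε : ℂ) * g := by
      rw [Finset.sum_erase _ (by simp)]
      have h := gaussSum_mulShift χ ψ (Units.mk0 ε hε)
      rw [← mul_left_cancel₀ (show (χ ε) ≠ 0 by
          rw [MulChar.ringHomComp_apply]
          rcases quadraticChar_dichotomy hε with h | h <;> simp [h])
        (show χ ε * ∑ c, (quadraticChar (ZMod q) c : ℂ) * ψ (ε * c) =
          χ ε * ((quadraticChar (ZMod q) ε : ℂ) * g) from ?_)]
      rw [show χ ε * ((quadraticChar (ZMod q) ε : ℂ) * g) = g by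
        rw [MulChar.ringHomComp_apply, ← mul_assoc]
        rcases quadraticChar_dichotomy hε with h | h <;> simp [h]]
      exact h
    rw [h1, ← Finset.add_sum_erase _ _ (Finset.mem_univ (0 : ZMod q)), mul_zero,
      AddChar.map_zero_eq_one, mul_one, mul_add, Finset.mul_sum,
      Finset.sum_congr rfl fun c hc => by
        rw [← mul_assoc, hW c (Finset.ne_of_mem_erase hc), add_mul, mul_assoc _ _ (ψ _),
          mul_comm (quadraticChar (ZMod q) c : ℂ), mul_assoc],
      Finset.sum_add_distrib, ← Finset.mul_sum]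
    have h4 : ∑ c ∈ Finset.univ.erase (0 : ZMod q),
        aeval z (W (1 : ZMod q) - W (-1 : ZMod q)) * ((quadraticChar (ZMod q) c : ℂ) * ψ (ε * c)) =
        aeval z (W (1 : ZMod q) - W (-1 : ZMod q)) * ((quadraticChar (ZMod q) ε : ℂ) * g) := by
      rw [← Finset.mul_sum, h3]
    rw [h2]
    generalize aeval z (W (1 : ZMod q) - W (-1 : ZMod q)) = B' at h4 ⊢
    rw [Finset.sum_congr rfl fun c _ => show B' * (ψ (ε * c) * (quadraticChar (ZMod q) c : ℂ)) =
      B' * ((quadraticChar (ZMod q) c : ℂ) * ψ (ε * c)) by ring, h4]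
    simp only [map_sub, map_add, map_mul, map_ofNat]
    ring
  have hprod : (∏ r ∈ R, (1 - z * ψ (1 * r))) * ∏ r ∈ R, (1 - z * ψ (-1 * r)) = -z ^ (l - 1) := by
    have hz1 : z ≠ 1 := hz.ne_one hl.one_lt
    have hdis : Disjoint R (R.image (-1 * ·)) := by
      rw [Finset.disjoint_left]
      intro a ha hb
      obtain ⟨b, hb', rfl⟩ := Finset.mem_image.1 hb
      have h1 := (Finset.mem_filter.1 ha).2
      rw [map_mul, hm1, (Finset.mem_filter.1 hb').2] at h1
      norm_num at h1
    have hun : R ∪ R.image (-1 * ·) = Finset.univ.erase (0 : ZMod q) := by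
      ext c
      simp only [Finset.mem_union, Finset.mem_image, hR, Finset.mem_filter, Finset.mem_univ,
        true_and, Finset.mem_erase, and_true]
      constructor
      · rintro (h | ⟨b, hb, rfl⟩) hc
        · rw [hc, quadraticChar_zero] at h; exact zero_ne_one h
        · rw [mul_eq_zero] at hc
          rcases hc with hc | hc
          · exact neg_ne_zero.2 one_ne_zero hc
          · rw [hc, quadraticChar_zero] at hb; exact zero_ne_one hb
      · intro hc
        rcases quadraticChar_dichotomy hc with h | h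
        · exact Or.inl h
        · exact Or.inr ⟨-c, by rw [neg_eq_neg_one_mul, map_mul, hm1, h]; norm_num, by ring⟩
    have hprim : IsPrimitiveRoot (ψ 1) q := by
      refine IsPrimitiveRoot.mk_of_lt _ (NeZero.pos q) ?_ fun k hk0 hkq h => ?_
      · rw [← AddChar.map_nsmul_eq_pow, nsmul_eq_mul, mul_one, ZMod.natCast_self,
          AddChar.map_zero_eq_one]
      · rw [← AddChar.map_nsmul_eq_pow, nsmul_eq_mul, mul_one, ← ψ.map_zero_eq_one] at h
        have := ZMod.injective_stdAddChar h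
        rw [ZMod.natCast_eq_zero_iff] at this
        exact absurd (Nat.le_of_dvd hk0 this) (by omega)
    have hroots : nthRootsFinset q (1 : ℂ) = Finset.univ.image ψ := by
      symm
      refine Finset.eq_of_subset_of_card_le (fun w hw => ?_) ?_
      · obtain ⟨c, -, rfl⟩ := Finset.mem_image.1 hw
        rw [mem_nthRootsFinset (NeZero.pos q), ← AddChar.map_nsmul_eq_pow, nsmul_eq_mul,
          ZMod.natCast_self, zero_mul, AddChar.map_zero_eq_one]
      · rw [Finset.card_image_of_injective _ ZMod.injective_stdAddChar, Finset.card_univ, ZMod.card,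
          hprim.card_nthRootsFinset]
    have hall := hprim.pow_sub_pow_eq_prod_sub_mul (x := (1 : ℂ)) (y := z) (NeZero.pos q)
    rw [hroots, Finset.prod_image fun a _ b _ h => ZMod.injective_stdAddChar h, one_pow,
      ← Finset.mul_prod_erase _ _ (Finset.mem_univ (0 : ZMod q)), AddChar.map_zero_eq_one,
      one_mul, ← hun, Finset.prod_union hdis,
      Finset.prod_image fun a _ b _ h => mul_left_cancel₀ (neg_ne_zero.2 one_ne_zero) h] at hall
    have hzq : z ^ q = z ^ (l - 1) := by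
      obtain ⟨k, hk⟩ := hql
      have hk0 : k ≠ 0 := by rintro rfl; simp at hk
      obtain ⟨k', rfl⟩ := Nat.exists_eq_succ_of_ne_zero hk0
      have : q = l * k' + (l - 1) := by
        have := hl.one_lt
        rw [Nat.mul_succ] at hk
        omega
      rw [this, pow_add, pow_mul, hz.pow_eq_one, one_pow, one_mul]
    rw [hzq] at hall
    have hpow : z ^ (l - 1) * z = 1 := by
      rw [← pow_succ, show l - 1 + 1 = l by have := hl.one_lt; omega, hz.pow_eq_one]
    refine mul_left_cancel₀ (sub_ne_zero.2 hz1.symm) ?_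
    simp only [one_mul, mul_comm z (ψ _)]
    rw [← hall]
    linear_combination (-(1 : ℂ)) * hpow
  have h1 := hsum 1 one_ne_zero
  have h2 := hsum (-1) (neg_ne_zero.2 one_ne_zero)
  rw [map_one, Int.cast_one, one_mul] at h1
  rw [hm1, Int.cast_neg, Int.cast_one] at h2
  simp only [map_add, map_mul, map_pow, map_natCast, map_ofNat, aeval_X]
  set A := aeval z (2 * W (0 : ZMod q) - W (1 : ZMod q) - W (-1 : ZMod q))
  set B := aeval z (W (1 : ZMod q) - W (-1 : ZMod q))
  linear_combination (4 : ℂ) * hprod + (B ^ 2) * hg -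
    (2 * ∏ r ∈ R, (1 - z * ψ (-1 * r))) * h1 - (A + B * g) * h2

/-- The prime `q` and the relation. -/
theorem exists_relation {l : ℕ} (hl : l.Prime) (hl7 : 7 ≤ l) :
    ∃ (q : ℕ) (m n s : ℤ) (a b : ℤ[X]), q ≠ 0 ∧ s ≠ 0 ∧ m ^ 2 + 5 * n ^ 2 = 2 * q * s ^ 2 ∧
      cyclotomic l ℤ ∣ a ^ 2 + (q : ℤ[X]) * b ^ 2 + 4 * X ^ (l - 1) := by
  have hco : l.Coprime 20 := (hl.coprime_iff_not_dvd).2 fun h => by
    have := Nat.le_of_dvd (by norm_num) h
    interval_cases l <;> first | omega | norm_num at hl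
  obtain ⟨a, ha1, ha2⟩ := Nat.chineseRemainder hco (l - 1) 3
  have hacop : a.Coprime (l * 20) := by
    refine Nat.Coprime.mul_right ?_ ?_
    · rw [Nat.coprime_comm, hl.coprime_iff_not_dvd]
      intro h
      have : (l - 1) % l = 0 := by rw [← ha1, Nat.dvd_iff_mod_eq_zero.1 h]
      rw [Nat.mod_eq_of_lt (by omega)] at this
      omega
    · rw [Nat.coprime_iff_gcd_eq_one, Nat.gcd_comm, Nat.gcd_rec, ha2]
      rfl
  obtain ⟨q, -, hq, hqa⟩ := Nat.forall_exists_prime_gt_and_modEq 0
    (show l * 20 ≠ 0 by positivity) hacop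
  have hq1 : q ≡ l - 1 [MOD l] := (hqa.of_mul_right 20).trans ha1
  have hq20 : q % 20 = 3 := (hqa.of_mul_left l).trans ha2
  obtain ⟨m, n, s, hs, hmn⟩ := exists_small hq hq20
  haveI := Fact.mk hq
  have hql : l ∣ q + 1 := by
    have h := hq1.add_right 1
    rw [show l - 1 + 1 = l by omega] at h
    exact Nat.modEq_zero_iff_dvd.1 (h.trans (by rw [Nat.modEq_zero_iff_dvd]))
  obtain ⟨a', b', hab⟩ := relation (q := q) (by omega) hl hql
  exact ⟨q, m, n, s, a', b', hq.ne_zero, hs, hmn, hab⟩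

end Cfsg.Agent.Lib.DivisionUnits.CyclotomicNorm
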