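import Cfsg.Agent.Lib.DivisionUnits.CyclotomicNorm
import Cfsg.Agent.Lib.FpfLinear.NonSolvable

/-!
# Nonsolvable finite subgroups of division rings

Such a group is `SL(2, 5)`.  The characteristic is zero by Wedderburn's little theorem, the
decomposition `SL(2, 5) × M` of a fixed-point-free linear group applies, `M` is trivial as a
quaternion algebra over a cyclotomic field containing a primitive `l`-th root of unity is split,
and no element can induce the outer automorphism.
-/

set_option linter.unusedSectionVars false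

namespace Cfsg.Agent.Lib.DivisionUnits.Main

open Cfsg.Agent.Lib.FpfLinear.Basic Cfsg.Agent.Lib.FpfLinear.Model Cfsg.Agent.Lib.FpfLinear.Hom
  Polynomial TensorProduct

set_option synthInstance.maxSize 2048 in
theorem commutator_two_order : ∀ a b c d : ZMod 5, qdet (a, b, c, d) = 1 →
    qm (a, b, c, d) (gen false) = qm (gen false) (a, b, c, d) →
    qm (sq2 (a, b, c, d)) (a, b, c, d) = qI ∨ qm (sq2 (a, b, c, d)) (a, b, c, d) = qN := by
  decide +kernel

set_option synthInstance.maxSize 2048 in
theorem witness : qdet (0, 1, 4, 2) = 1 ∧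
    qm (qm (gen false) gen2) (0, 1, 4, 2) =
      qm (0, 1, 4, 2) (qm (sq2 (qm (gen false) (gen true))) (qm (gen false) (gen true))) ∧
    qdet (2, 0, 0, 3) = 1 ∧ sq2 ((2, 0, 0, 3) : Quad) = qN ∧ qdet (1, 1, 0, 1) = 1 ∧
    p5 ((1, 1, 0, 1) : Quad) = qI ∧ ((1, 1, 0, 1) : Quad) ≠ qI ∧
    qm (qm (sq2 ((1, 1, 0, 1) : Quad)) (sq2 ((1, 1, 0, 1) : Quad))) (2, 0, 0, 3) =
      qm (2, 0, 0, 3) (1, 1, 0, 1) ∧
    sq2 qN = qI ∧ qN ≠ qI ∧ qdet gen2 = 1 ∧
    qm (sq2 (qm (gen false) (gen true))) (qm (gen false) (gen true)) ≠ qN ∧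
    qm (gen false) (gen true) ≠ qN := by decide +kernel

theorem quad_three (g : SL) : quad (g ^ 3) = qm (sq2 (quad g)) (quad g) := by
  rw [pow_three', quad_mul, quad_mul, sq2]

theorem quad_five (g : SL) : quad (g ^ 5) = p5 (quad g) := by
  rw [show g ^ 5 = g * g * (g * g) * g by
    rw [pow_succ, pow_succ, pow_succ, pow_succ, pow_one]; group, quad_mul, quad_mul, quad_mul]
  rfl

theorem orderOf_sX : orderOf sX = 3 := by
  have := Fact.mk Nat.prime_three
  refine orderOf_eq_prime (quad_injective ?_) fun h => ?_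
  · rw [quad_three, quad_one, sX, quad_ofQuad]; decide
  · have := congrArg quad h
    rw [sX, quad_ofQuad, quad_one] at this
    exact absurd this (by decide)

theorem orderOf_sY : orderOf sY = 3 := by
  have := Fact.mk Nat.prime_three
  refine orderOf_eq_prime (quad_injective ?_) fun h => ?_
  · rw [quad_three, quad_one, sY, quad_ofQuad]; decide
  · have := congrArg quad h
    rw [sY, quad_ofQuad, quad_one] at this
    exact absurd this (by decide)

/-- What commutes with both generators commutes with all of `SL(2, 5)`. -/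
theorem commute_range {R : Type*} [Monoid R] (F : SL →* R) {C : R} (hX : Commute C (F sX))
    (hY : Commute C (F sY)) (u : SL) : Commute C (F u) := by
  have key : ∀ (w : List Bool) (u : SL), quad u = qword w → Commute C (F u) := by
    intro w
    induction w with
    | nil =>
      intro u hu
      rw [show u = 1 from quad_injective (hu.trans quad_one.symm), map_one]
      exact Commute.one_right C
    | cons s w ih =>
      intro u hu
      have hwd : qdet (qword w) = 1 := by
        clear hu ih
        induction w with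
        | nil => decide
        | cons s w ih => rw [qword, qdet_qm, ih]; cases s <;> decide
      have := ih (ofQuad (qword w) hwd) (quad_ofQuad _ _)
      cases s with
      | false =>
        rw [show u = sX * ofQuad (qword w) hwd from quad_injective
          (by rw [quad_mul, sX, quad_ofQuad, quad_ofQuad, hu, qword]), map_mul]
        exact hX.mul_right this
      | true =>
        rw [show u = sY * ofQuad (qword w) hwd from quad_injective
          (by rw [quad_mul, sY, quad_ofQuad, quad_ofQuad, hu, qword]), map_mul]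
        exact hY.mul_right this
  exact key _ u (qword_wordOf _ _ _ _ (quad_det u)).symm

section Group

variable {G : Type*} [Group G]

/-- An element outside the range can be moved to one inducing the standard outer map. -/
theorem exists_outer (f : SL →* G) (hf : Function.Injective f)
    (h3 : ∀ u : G, orderOf u = 3 → u ∈ f.range) (hN : ∀ g : G, f sN * g = g * f sN)
    (hC : Subgroup.centralizer (f.range : Set G) ≤ f.range) {g : G} (hg : g ∉ f.range) :
    ∃ g' : G, g' ∉ f.range ∧ g' * f sX * g'⁻¹ = f sX ∧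
      g' * f sY * g'⁻¹ = f (ofQuad gen2 (by decide)) := by
  have hord : ∀ a u : G, orderOf u = 3 → orderOf (a * u * a⁻¹) = 3 := fun a u hu => by
    rw [← MulAut.conj_apply, MulEquiv.orderOf_eq, hu]
  have hx : orderOf (f sX) = 3 := by rw [orderOf_injective f hf, orderOf_sX]
  have hy : orderOf (f sY) = 3 := by rw [orderOf_injective f hf, orderOf_sY]
  obtain ⟨p, hp⟩ := h3 _ (hord g _ hx)
  have hp3 : orderOf p = 3 := by rw [← orderOf_injective f hf, hp, hord g _ hx]
  obtain ⟨w, -, hw⟩ := conj_three _ _ _ _ (quad_det p)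
    (by
      have := quad_three p
      rw [← hp3, pow_orderOf_eq_one, quad_one] at this
      exact this.symm)
    (fun h => by
      have : p = 1 := quad_injective (h.trans quad_one.symm)
      simp [this] at hp3)
  have hwd : qdet (qword w) = 1 := by
    clear hw
    induction w with
    | nil => decide
    | cons s w ih => rw [qword, qdet_qm, ih]; cases s <;> decide
  set k := f (ofQuad (qword w) hwd) with hk
  have hkp : f p * k = k * f sX := by
    rw [hk, ← map_mul, ← map_mul]
    congr 1
    apply quad_injective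
    rw [quad_mul, quad_mul, sX, quad_ofQuad, quad_ofQuad]
    exact hw.symm
  set g1 := k⁻¹ * g with hg1
  have hg1x : g1 * f sX * g1⁻¹ = f sX := by
    calc g1 * f sX * g1⁻¹ = k⁻¹ * (g * f sX * g⁻¹ * k) := by rw [hg1]; group
      _ = f sX := by rw [← hp, hkp]; group
  have hg1n : g1 ∉ f.range := fun h => hg (by
    simpa [hg1] using mul_mem (⟨_, rfl⟩ : k ∈ f.range) h)
  obtain ⟨q, hq⟩ := h3 _ (hord g1 _ hy)
  have hq3 : orderOf q = 3 := by rw [← orderOf_injective f hf, hq, hord g1 _ hy]
  have hxq : f (sX * q) = g1 * f (sX * sY) * g1⁻¹ := by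
    rw [map_mul, map_mul, hq]
    calc f sX * (g1 * f sY * g1⁻¹) = g1 * f sX * g1⁻¹ * (g1 * f sY * g1⁻¹) := by rw [hg1x]
      _ = _ := by group
  have hN5 : (sX * sY) ^ 5 = sN := by
    apply quad_injective
    rw [quad_five, quad_mul, sX, sY, sN, quad_ofQuad, quad_ofQuad, quad_ofQuad]
    exact wordOf_basic.2.2.2
  have hcen : g1 * f sN * g1⁻¹ = f sN := by rw [← hN g1, mul_inv_cancel_right]
  have c1 : (sX * q) ^ 5 = sN := hf (by
    rw [map_pow, hxq, conj_pow, ← map_pow, hN5, hcen])
  have c2 : sX * q ≠ sN := by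
    intro h
    rw [h] at hxq
    have e : f (sX * sY) = f sN := by
      calc f (sX * sY) = g1⁻¹ * (g1 * f (sX * sY) * g1⁻¹) * g1 := by group
        _ = g1⁻¹ * (f sN * g1) := by rw [← hxq, mul_assoc]
        _ = f sN := by rw [hN g1, inv_mul_cancel_left]
    have := congrArg quad (hf e)
    rw [quad_mul, sX, sY, sN, quad_ofQuad, quad_ofQuad, quad_ofQuad] at this
    exact witness.2.2.2.2.2.2.2.2.2.2.2.2 this
  have hmem := far_partners _ _ _ _ (quad_det q)
    (by
      have := quad_three q
      rw [← hq3, pow_orderOf_eq_one, quad_one] at this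
      exact this.symm)
    (fun h => by
      have : q = 1 := quad_injective (h.trans quad_one.symm)
      simp [this] at hq3)
    (by
      have := quad_five (sX * q)
      rw [c1, quad_mul, sX, sN, quad_ofQuad, quad_ofQuad] at this
      exact this.symm)
    (fun h => c2 (quad_injective (by rw [quad_mul, sX, sN, quad_ofQuad, quad_ofQuad]; exact h)))
  have conclude : ∀ k : SL, k * sX = sX * k →
      (q = k * sY * k⁻¹ ∨ q = k * ofQuad gen2 (by decide) * k⁻¹) →
      ∃ g' : G, g' ∉ f.range ∧ g' * f sX * g'⁻¹ = f sX ∧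
        g' * f sY * g'⁻¹ = f (ofQuad gen2 (by decide)) := by
    intro k hkx hr
    have hx' : (f k)⁻¹ * g1 * f sX * ((f k)⁻¹ * g1)⁻¹ = f sX := by
      calc (f k)⁻¹ * g1 * f sX * ((f k)⁻¹ * g1)⁻¹ = (f k)⁻¹ * (g1 * f sX * g1⁻¹) * f k := by group
        _ = f sX := by rw [hg1x, mul_assoc, ← map_mul, ← hkx, map_mul, inv_mul_cancel_left]
    have hn' : (f k)⁻¹ * g1 ∉ f.range := fun h => hg1n (by
      simpa using mul_mem (⟨_, rfl⟩ : f k ∈ f.range) h)
    have hy' : ∀ r : SL, q = k * r * k⁻¹ → (f k)⁻¹ * g1 * f sY * ((f k)⁻¹ * g1)⁻¹ = f r := by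
      intro r hr
      calc (f k)⁻¹ * g1 * f sY * ((f k)⁻¹ * g1)⁻¹ = (f k)⁻¹ * (g1 * f sY * g1⁻¹) * f k := by group
        _ = f r := by rw [← hq, hr, map_mul, map_mul, map_inv]; group
    rcases hr with hr | hr
    · refine absurd (hC (Subgroup.mem_centralizer_iff.2 ?_)) hn'
      rintro _ ⟨u, rfl⟩
      exact (commute_range f (mul_inv_eq_iff_eq_mul.1 hx')
        (mul_inv_eq_iff_eq_mul.1 (hy' _ hr)) u).symm.eq
    · exact ⟨_, hn', hx', hy' _ hr⟩
  have hto : ∀ r : SL, quad q = quad r → q = r := fun r h => quad_injective h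
  simp only [List.mem_cons, List.not_mem_nil, or_false] at hmem
  have hx3 : sX⁻¹ = sX * sX :=
    (eq_inv_of_mul_eq_one_left (by rw [← pow_three', ← orderOf_sX, pow_orderOf_eq_one])).symm
  rcases hmem with h | h | h | h | h | h
  · refine conclude 1 (by group) (Or.inl ?_)
    rw [hto sY (by rw [sY, quad_ofQuad]; exact h)]; group
  · refine conclude sX rfl (Or.inl ?_)
    rw [hx3]
    exact hto _ (by simp only [quad_mul, sX, sY, quad_ofQuad]; exact h)
  · refine conclude sX⁻¹ (by group) (Or.inl ?_)
    rw [inv_inv, hx3]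
    exact hto _ (by simp only [quad_mul, sX, sY, quad_ofQuad]; exact h)
  · refine conclude 1 (by group) (Or.inr ?_)
    rw [hto (ofQuad gen2 (by decide)) (by rw [quad_ofQuad]; exact h)]; group
  · refine conclude sX rfl (Or.inr ?_)
    rw [hx3]
    exact hto _ (by simp only [quad_mul, sX, quad_ofQuad]; exact h)
  · refine conclude sX⁻¹ (by group) (Or.inr ?_)
    rw [inv_inv, hx3]
    exact hto _ (by simp only [quad_mul, sX, quad_ofQuad]; exact h)

end Group

theorem ident {K : Type*} [CommRing K] (m n s q t a b c z : K)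
    (hq : m ^ 2 + 5 * n ^ 2 = 2 * q * s ^ 2) (ht : t * t + t - 1 = 0) (hc : c ^ 2 = 4 * z)
    (hz : a ^ 2 + q * b ^ 2 + 4 * z = 0) :
    (4 * s * (4 - t * t) * a) ^ 2 + (4 * s * (4 - t * t) * c) ^ 2 +
      ((b * ((m - n * (2 * t + 1)) * (2 * t + 2) + (m + n * (2 * t + 1)) * 2)) ^ 2 +
        (b * ((m + n * (2 * t + 1)) * (2 * t + 2) - (m - n * (2 * t + 1)) * 2)) ^ 2) *
        (4 - t * t) = 0 := by
  have hef : ((m - n * (2 * t + 1)) * (2 * t + 2) + (m + n * (2 * t + 1)) * 2) ^ 2 +
      ((m + n * (2 * t + 1)) * (2 * t + 2) - (m - n * (2 * t + 1)) * 2) ^ 2 =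
      16 * q * s ^ 2 * (4 - t * t) := by
    linear_combination (2 * ((2 * t + 2) ^ 2 + 4)) * hq +
      (8 * n ^ 2 * ((2 * t + 2) ^ 2 + 4) + 32 * q * s ^ 2) * ht
  linear_combination (16 * s ^ 2 * (4 - t * t) ^ 2) * hz + (16 * s ^ 2 * (4 - t * t) ^ 2) * hc +
    ((4 - t * t) * b ^ 2) * hef

section Ring

variable {D : Type*} [DivisionRing D]

/-- `a² + α² + r (β² + γ²)` does not vanish in the presence of `j` and `d`. -/
theorem alpha_eq_zero [CharZero D] {j d r a α β γ : D} (hj : j * j = -1) (hd : d * d = -r)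
    (hjd : j * d = -(d * j)) (hr : r ≠ 0) (haα : Commute a α) (haβ : Commute a β)
    (haγ : Commute a γ) (hαβ : Commute α β) (hαγ : Commute α γ) (hβγ : Commute β γ)
    (haj : Commute a j) (had : Commute a d) (hαj : Commute α j) (hαd : Commute α d)
    (hβj : Commute β j) (hβd : Commute β d) (hγj : Commute γ j) (hγd : Commute γ d)
    (h : a * a + α * α + (β * β + γ * γ) * r = 0) : α = 0 := by
  have hd0 : d ≠ 0 := fun h0 => hr (by rw [h0, mul_zero, eq_comm, neg_eq_zero] at hd; exact hd)
  have hj0 : j ≠ 0 := fun h0 => by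
    rw [h0, mul_zero, eq_comm, neg_eq_zero] at hj; exact one_ne_zero hj
  have two : ∀ w : D, w + w = 0 → w = 0 := fun w hw => by
    rw [← two_mul, mul_eq_zero] at hw
    exact hw.resolve_left two_ne_zero
  set W := β + γ * j with hW
  have hWj : Commute W j := hβj.add_left (hγj.mul_left (Commute.refl j))
  have hαW : Commute α W := hαβ.add_right (hαγ.mul_right hαj)
  have hdW : d * W = (β - γ * j) * d := by
    rw [hW, mul_add, ← hβd.eq, ← mul_assoc, ← hγd.eq, mul_assoc γ, sub_mul, mul_assoc γ,
      sub_eq_add_neg, ← mul_neg, hjd, neg_neg]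
  have hWW : W * (β - γ * j) = β * β + γ * γ := by
    calc W * (β - γ * j) = β * β - β * (γ * j) + γ * (j * β) - γ * (j * γ) * j := by
          rw [hW]; noncomm_ring
      _ = β * β + γ * γ := by
          rw [← hβj.eq, ← hγj.eq, ← mul_assoc, hβγ.eq, ← mul_assoc γ β]
          simp only [mul_assoc, hj]
          noncomm_ring
  set P := α * j + W * d with hP
  have hPP : P * P = -(α * α) - (β * β + γ * γ) * r := by
    have e1 : α * j * (α * j) = -(α * α) := by
      rw [mul_assoc, ← mul_assoc j, ← hαj.eq, mul_assoc α j, hj, ← mul_assoc, mul_neg_one]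
    have e2 : α * j * (W * d) + W * d * (α * j) = 0 := by
      have : W * d * (α * j) = -(α * j * (W * d)) := by
        calc W * d * (α * j) = W * (α * (d * j)) := by rw [mul_assoc, ← mul_assoc d, ← hαd.eq, mul_assoc α]
          _ = α * W * (d * j) := by rw [← mul_assoc, ← hαW.eq]
          _ = -(α * (W * j) * d) := by
              rw [show d * j = -(j * d) by rw [hjd, neg_neg]]; noncomm_ring
          _ = -(α * j * (W * d)) := by rw [hWj.eq]; noncomm_ring
      rw [this, add_neg_cancel]
    have e3 : W * d * (W * d) = -((β * β + γ * γ) * r) := by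
      rw [mul_assoc, ← mul_assoc d, hdW, mul_assoc _ d, hd, ← mul_assoc, hWW, mul_neg]
    calc P * P = α * j * (α * j) + (α * j * (W * d) + W * d * (α * j)) + W * d * (W * d) := by
          rw [hP]; noncomm_ring
      _ = _ := by rw [e1, e2, e3, add_zero, sub_eq_add_neg]
  have haP : Commute a P := (haα.mul_right haj).add_right
    ((haβ.add_right (haγ.mul_right haj)).mul_right had)
  have hPa : P = a ∨ P = -a := by
    have : (P - a) * (P + a) = 0 := by
      calc (P - a) * (P + a) = P * P - a * a + (P * a - a * P) := by noncomm_ring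
        _ = -(a * a + α * α + (β * β + γ * γ) * r) := by rw [hPP, haP.eq, sub_self]; abel
        _ = 0 := by rw [h, neg_zero]
    rcases mul_eq_zero.1 this with h1 | h1
    · exact Or.inl (sub_eq_zero.1 h1)
    · exact Or.inr (eq_neg_of_add_eq_zero_left h1)
  have hPc : ∀ w : D, Commute a w → Commute P w := by
    intro w hw
    rcases hPa with e | e <;> rw [e]
    exacts [hw, hw.neg_left]
  have hW0 : W * d = 0 := by
    have h1 : P * j = j * P := (hPc j haj).eq
    have h2 : W * d * j = j * (W * d) := by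
      rw [hP, add_mul, mul_add, show α * j * j = j * (α * j) by rw [← mul_assoc, hαj.eq]] at h1
      exact add_left_cancel h1
    have h3 : j * (W * d) = -(W * d * j) := by
      rw [← mul_assoc, ← hWj.eq, mul_assoc, hjd, mul_neg, mul_assoc]
    rw [← h2] at h3
    have := two (W * d * j) (by nth_rewrite 2 [h3]; exact add_neg_cancel _)
    exact (mul_eq_zero.1 this).resolve_right hj0
  have hαj0 : α * (j * d) = 0 := by
    have h1 : α * j * d = d * (α * j) := by
      have := (hPc d had).eq
      rwa [hP, hW0, add_zero] at this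
    have h3 : d * (α * j) = -(α * (j * d)) := by
      rw [← mul_assoc, ← hαd.eq, mul_assoc, hjd, mul_neg, neg_neg]
    rw [h3, mul_assoc] at h1
    exact two _ (by nth_rewrite 1 [h1]; exact neg_add_cancel _)
  exact (mul_eq_zero.1 hαj0).resolve_right (mul_ne_zero hj0 hd0)

theorem charZero (H : Subgroup Dˣ) [Finite H] (hH : ¬ Group.IsSolvable H) : CharZero D := by
  rcases CharP.exists D with ⟨p, hp⟩
  rcases eq_or_ne p 0 with rfl | hp0
  · exact CharP.charP_to_charZero D
  exfalso
  have : Fact p.Prime := ⟨(CharP.char_is_prime_or_zero D p).resolve_right hp0⟩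
  let _ : Algebra (ZMod p) D := ZMod.algebra D p
  let φ : H →* D := (Units.coeHom D).comp H.subtype
  let ψ := MonoidAlgebra.lift (ZMod p) D H φ
  have : Finite (MonoidAlgebra (ZMod p) H) := Module.finite_of_finite (ZMod p)
  have : Finite ψ.range := Finite.of_surjective ψ.rangeRestrict ψ.rangeRestrict_surjective
  have hF := Finite.isDomain_to_isField ψ.range
  have hmem : ∀ h : H, φ h ∈ ψ.range := fun h =>
    ⟨MonoidAlgebra.of (ZMod p) H h, by simp [ψ]⟩
  refine hH (Group.isSolvable_of_comm fun a b => Subtype.ext (Units.ext ?_))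
  exact congrArg (fun u : ψ.range => (u : D)) (hF.mul_comm ⟨φ a, hmem a⟩ ⟨φ b, hmem b⟩)

theorem no_prime [CharZero D] {l : ℕ} (hl : l.Prime) (hl7 : 7 ≤ l) {j v w z : D}
    (hj : j * j = -1) (hvw : v * w = 1) (hwv : w * v = 1)
    (hsum : 1 + v + v * v + w * w + w = 0) (hjv : j * v = w * j) (hjw : j * w = v * j)
    (hzj : Commute z j) (hzv : Commute z v) (hzw : Commute z w)
    (hzl : z ^ l = 1) (hz1 : z ≠ 1) : False := by
  obtain ⟨q, m, n, s, a, b, -, hs, hmn, hab⟩ := CyclotomicNorm.exists_relation hl hl7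
  set t := v + w with ht
  set d := v - w with hd
  have ht2 : t * t + t - 1 = 0 := by
    calc t * t + t - 1 = (v * w - 1) + (w * v - 1) + (1 + v + v * v + w * w + w) := by
          rw [ht]; noncomm_ring
      _ = 0 := by rw [hvw, hwv, hsum]; abel
  have hvw' : Commute v w := hvw.trans hwv.symm
  have htj : Commute t j := by
    show t * j = j * t
    rw [ht, add_mul, mul_add, hjv, hjw, add_comm]
  have htd : Commute t d := ((Commute.refl v).add_left hvw'.symm).sub_right
    (hvw'.add_left (Commute.refl w))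
  have htz : Commute t z := (hzv.add_right hzw).symm
  have hzd : Commute z d := hzv.sub_right hzw
  have hjd : j * d = -(d * j) := by
    rw [hd, mul_sub, sub_mul, neg_sub, hjv, hjw]
  set r := (4 : D) - t * t with hr
  have hdd : d * d = -r := by
    calc d * d = t * t - (v * w + v * w + w * v + w * v) := by rw [ht, hd]; noncomm_ring
      _ = -r := by rw [hvw, hwv, hr]; norm_num
  have hr0 : r ≠ 0 := by
    intro h
    have h3 : t + 3 = 0 := by
      calc t + 3 = (t * t + t - 1) + ((4 : D) - t * t) := by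
            rw [show (4 : D) = 3 + 1 by norm_num]; abel
        _ = 0 := by rw [ht2, ← hr, h, add_zero]
    rw [eq_neg_of_add_eq_zero_left h3] at ht2
    norm_num at ht2
  -- the commutative subring generated by `t` and `z`
  let _ : CommRing (Subring.closure ({t, z} : Set D)) := Subring.closureCommRingOfComm (by
    rintro u (rfl | rfl) u' (rfl | rfl)
    exacts [rfl, htz.eq, htz.symm.eq, rfl])
  set t' : Subring.closure ({t, z} : Set D) := ⟨t, Subring.subset_closure (Set.mem_insert _ _)⟩
  set z' : Subring.closure ({t, z} : Set D) :=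
    ⟨z, Subring.subset_closure (Set.mem_insert_of_mem _ rfl)⟩
  have hzl' : z' ^ l = 1 := Subtype.ext (by simpa [z'] using hzl)
  have := Fact.mk hl
  have hrel : aeval z' a ^ 2 + (q : Subring.closure ({t, z} : Set D)) * aeval z' b ^ 2 +
      4 * z' ^ (l - 1) = 0 := by
    obtain ⟨Q, hQ⟩ := hab
    have hcyc : aeval z' (cyclotomic l ℤ) = 0 := by
      rw [cyclotomic_prime, map_sum]
      simp only [map_pow, aeval_X]
      apply Subtype.ext
      have h1 := mul_geom_sum (z : D) l
      rw [hzl, sub_self, mul_eq_zero] at h1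
      rw [AddSubmonoidClass.coe_finsetSum]
      simpa [z'] using h1.resolve_left (sub_ne_zero.2 hz1)
    have := congrArg (aeval z') hQ
    simpa only [map_mul, map_add, map_pow, map_natCast, map_ofNat, aeval_X, hcyc, zero_mul]
      using this
  set c' := 2 * z' ^ ((l - 1) / 2) with hc'
  have hc : c' ^ 2 = 4 * z' ^ (l - 1) := by
    have : (l - 1) / 2 * 2 = l - 1 := by
      have := hl.odd_of_ne_two (by omega)
      obtain ⟨k, hk⟩ := this
      omega
    rw [hc', mul_pow, ← pow_mul, this]
    norm_num
  have hE := ident (m : Subring.closure ({t, z} : Set D)) n s q t' (aeval z' a) (aeval z' b) c'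
    (z' ^ (l - 1)) (by exact_mod_cast hmn) (Subtype.ext (by simpa [t'] using ht2)) hc hrel
  set e' := ((m : Subring.closure ({t, z} : Set D)) - n * (2 * t' + 1)) * (2 * t' + 2) +
    (m + n * (2 * t' + 1)) * 2
  set f' := ((m : Subring.closure ({t, z} : Set D)) + n * (2 * t' + 1)) * (2 * t' + 2) -
    (m - n * (2 * t' + 1)) * 2
  set R' := 4 * (s : Subring.closure ({t, z} : Set D)) * (4 - t' * t') with hR'
  have hcl : ∀ u : D, Commute u t → Commute u z →
      ∀ K : Subring.closure ({t, z} : Set D), Commute (K : D) u := by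
    intro u h1 h2 K
    have : Subring.closure ({t, z} : Set D) ≤ Subring.centralizer {u} := by
      rw [Subring.closure_le]
      rintro x (rfl | rfl) <;>
        exact Subring.mem_centralizer_iff.2 fun g hg => by cases hg; first | exact h1.eq | exact h2.eq
    exact (Subring.mem_centralizer_iff.1 (this K.2) u rfl).symm
  have hK : ∀ K K' : Subring.closure ({t, z} : Set D), Commute (K : D) K' := fun K K' =>
    congrArg Subtype.val (mul_comm K K')
  have cj := hcl j htj.symm hzj.symm
  have cd := hcl d htd.symm hzd.symm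
  have h0 := alpha_eq_zero hj hdd hjd hr0 (hK (R' * aeval z' a) (R' * c'))
    (hK _ (aeval z' b * e')) (hK _ (aeval z' b * f')) (hK _ _) (hK _ _) (hK _ _)
    (cj _) (cd _) (cj _) (cd _) (cj _) (cd _) (cj _) (cd _) (by
      have := congrArg (Subtype.val) hE
      simp only [sq] at this
      rw [hr]
      exact this)
  have hs0 : (s : D) ≠ 0 := Int.cast_ne_zero.2 hs
  have hz0 : z ≠ 0 := fun h => by rw [h, zero_pow hl.ne_zero] at hzl; exact zero_ne_one hzl
  push_cast [hR', hc'] at h0
  simp [t', z', hs0, hz0] at h0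
  exact hr0 (by rw [hr, ← h0]; rfl)

theorem cc_commute {φ : SL →* D} (hinj : Function.Injective φ) (u : SL) :
    Commute (φ (sX * sY) + φ (sX * sY)⁻¹) (φ u) := by
  set x := φ sX with hxd
  set y := φ sY with hyd
  have hord : ∀ g : SL, orderOf g = 3 → φ g * φ g + φ g + 1 = 0 ∧ φ g⁻¹ = -φ g - 1 := by
    intro g hg
    have h1 : φ g ≠ 1 := fun e => by
      rw [← map_one φ] at e; rw [hinj e, orderOf_one] at hg; omega
    have h3 : g * g * g = 1 := by rw [← pow_three', ← hg, pow_orderOf_eq_one]
    have h0 : φ g * φ g + φ g + 1 = 0 := by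
      have : (φ g - 1) * (φ g * φ g + φ g + 1) = 0 := by
        calc _ = φ (g * g * g) - 1 := by rw [map_mul, map_mul]; noncomm_ring
          _ = 0 := by rw [h3, map_one, sub_self]
      exact (mul_eq_zero.1 this).resolve_left (sub_ne_zero.2 h1)
    refine ⟨h0, ?_⟩
    rw [show g⁻¹ = g * g from (eq_inv_of_mul_eq_one_left h3).symm, map_mul, ← sub_eq_zero, ← h0]
    abel
  obtain ⟨hx, hx'⟩ := hord sX orderOf_sX
  obtain ⟨hy, hy'⟩ := hord sY orderOf_sY
  set M := φ (sX * sY) with hM
  set C := M + φ (sX * sY)⁻¹ with hCd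
  have hC1 : C = x * y + y * x + x + y + 1 := by
    rw [hCd, hM, mul_inv_rev, map_mul, map_mul, hx', hy', ← hxd, ← hyd]; noncomm_ring
  have hCx : Commute C x := by
    show C * x = x * C
    rw [← sub_eq_zero]
    calc C * x - x * C = y * (x * x + x + 1) - (x * x + x + 1) * y := by rw [hC1]; noncomm_ring
      _ = 0 := by rw [hx]; noncomm_ring
  have hCy : Commute C y := by
    show C * y = y * C
    rw [← sub_eq_zero]
    calc C * y - y * C = x * (y * y + y + 1) - (y * y + y + 1) * x := by rw [hC1]; noncomm_ring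
      _ = 0 := by rw [hy]; noncomm_ring
  exact commute_range φ hCx hCy u

theorem not_outer [CharZero D] {φ : SL →* D} (hinj : Function.Injective φ) {h : D}
    (hN : φ sN = -1) (hh : h * h = -1)
    (hC : h * (φ (sX * sY) + φ (sX * sY)⁻¹) =
      (φ (sX * ofQuad gen2 (by decide)) + φ (sX * ofQuad gen2 (by decide))⁻¹) * h) : False := by
  set M := φ (sX * sY) with hM
  set C := M + φ (sX * sY)⁻¹ with hCd
  have hMM : M * M * M * M * M = -1 := by
    rw [hM, ← map_mul, ← map_mul, ← map_mul, ← map_mul, ← hN]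
    congr 1
    rw [← pow_three', ← pow_succ, ← pow_succ]
    apply quad_injective
    rw [quad_five, quad_mul, sX, sY, sN, quad_ofQuad, quad_ofQuad, quad_ofQuad]
    exact wordOf_basic.2.2.2
  have hM4 : M * M * M * M - M * M * M + M * M - M + 1 = 0 := by
    have : (M + 1) * (M * M * M * M - M * M * M + M * M - M + 1) = 0 := by
      calc _ = M * M * M * M * M + 1 := by noncomm_ring
        _ = 0 := by rw [hMM, neg_add_cancel]
    refine (mul_eq_zero.1 this).resolve_left fun e => ?_
    rw [← hN] at hMM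
    have := congrArg quad (hinj ((eq_neg_of_add_eq_zero_left e).trans hN.symm))
    rw [quad_mul, sX, sY, sN, quad_ofQuad, quad_ofQuad, quad_ofQuad] at this
    exact witness.2.2.2.2.2.2.2.2.2.2.2.2 this
  have hMi : φ (sX * sY)⁻¹ = -(M * M * M * M) := by
    refine left_inv_eq_right_inv (a := M) (by rw [hM, ← map_mul, inv_mul_cancel, map_one]) ?_
    calc M * -(M * M * M * M) = -(M * M * M * M * M) := by noncomm_ring
      _ = 1 := by rw [hMM, neg_neg]
  have hC2 : C * C = C + 1 := by
    rw [← sub_eq_zero]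
    calc C * C - (C + 1) = (M * M * M * M * M) * (M * M * M) - (M * M * M * M * M) -
          (M * M * M * M * M) + M * M + M * M * M * M - M - 1 := by
          rw [hCd, hMi]; noncomm_ring
      _ = M * M * M * M - M * M * M + M * M - M + 1 := by rw [hMM]; noncomm_ring
      _ = 0 := hM4
  set P := sX * sY with hP
  obtain ⟨hw1, hw2, -⟩ := witness
  set u := ofQuad (0, 1, 4, 2) hw1 with hu
  have hconj : sX * ofQuad gen2 (by decide) = u * P ^ 3 * u⁻¹ := by
    rw [eq_mul_inv_iff_mul_eq]
    apply quad_injective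
    rw [quad_mul, quad_mul, quad_mul, quad_three, hP, quad_mul, hu, sX, sY, quad_ofQuad,
      quad_ofQuad, quad_ofQuad, quad_ofQuad]
    exact hw2
  have hsum : φ (P ^ 3) + φ (P ^ 3)⁻¹ = 1 - C := by
    have hi : φ (P ^ 3)⁻¹ = -(M * M) := by
      refine left_inv_eq_right_inv (a := φ (P ^ 3)) (by rw [← map_mul, inv_mul_cancel, map_one]) ?_
      rw [map_pow, pow_three', ← hM]
      calc M * M * M * -(M * M) = -(M * M * M * M * M) := by noncomm_ring
        _ = 1 := by rw [hMM, neg_neg]
    rw [hi, map_pow, pow_three', ← hM, hCd, hMi, ← sub_eq_zero, ← neg_eq_zero]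
    calc _ = M * M * M * M - M * M * M + M * M - M + 1 := by abel
      _ = 0 := hM4
  have hC' : φ (sX * ofQuad gen2 (by decide)) + φ (sX * ofQuad gen2 (by decide))⁻¹ = 1 - C := by
    rw [hconj, show (u * P ^ 3 * u⁻¹)⁻¹ = u * (P ^ 3)⁻¹ * u⁻¹ by group, map_mul, map_mul, map_mul,
      map_mul, ← add_mul, ← mul_add, hsum,
      ((Commute.one_left (φ u)).sub_left (cc_commute hinj u)).symm.eq, mul_assoc, ← map_mul,
      mul_inv_cancel, map_one, mul_one]
  rw [hC'] at hC
  set s := C + C - 1 with hs
  have hhs : h * s = -(s * h) := by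
    rw [hs, mul_sub, mul_add, mul_one, hC]; noncomm_ring
  have hs5 : s * s = 5 := by
    calc s * s = (C * C - (C + 1)) + (C * C - (C + 1)) + (C * C - (C + 1)) + (C * C - (C + 1)) + 5 := by
          rw [hs, show (5 : D) = 1 + 1 + 1 + 1 + 1 by norm_num]; noncomm_ring
      _ = 5 := by rw [hC2, sub_self]; abel
  have hX : h * (s + 2) * (h * (s + 2)) = 1 := by
    calc h * (s + 2) * (h * (s + 2)) = h * (s * h + (h + h)) * (s + 2) := by noncomm_ring
      _ = h * (-(h * s) + (h + h)) * (s + 2) := by rw [hhs, neg_neg]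
      _ = h * h * (-s + 2) * (s + 2) := by noncomm_ring
      _ = s * s - 4 := by rw [hh]; noncomm_ring; norm_num
      _ = 1 := by rw [hs5]; norm_num
  have hcomm : (s + 2) * h = h * (s + 2) := by
    have hu : IsUnit (s + 2) := IsUnit.mk0 _ fun e => by
      rw [e, mul_zero, mul_zero] at hX; exact zero_ne_one hX
    rcases mul_self_eq_one_iff.1 hX with e | e
    · rw [e, mul_eq_one_comm.1 e]
    · rw [e]
      have : -h * (s + 2) = 1 := by rw [neg_mul, e, neg_neg]
      have := mul_eq_one_comm.1 this
      rw [mul_neg] at this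
      exact neg_eq_iff_eq_neg.1 this
  have h1 : s * h = h * s := by
    rw [add_mul, mul_add] at hcomm
    rwa [two_mul, mul_two, add_left_inj] at hcomm
  rw [← h1] at hhs
  have h0 : s * h + s * h = 0 := by nth_rewrite 1 [hhs]; exact neg_add_cancel _
  rw [← two_mul, mul_eq_zero, mul_eq_zero] at h0
  rcases h0 with e | e | e
  · exact two_ne_zero e
  · rw [e, mul_zero] at hs5; exact OfNat.zero_ne_ofNat 5 hs5
  · rw [e, mul_zero, eq_comm, neg_eq_zero] at hh; exact one_ne_zero hh

/-- **Amitsur.** A nonsolvable finite group of units of a division ring is `SL(2, 5)`. -/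
theorem main (H : Subgroup Dˣ) [Finite H] (hH : ¬ Group.IsSolvable H) : Nonempty (H ≃* SL) := by
  have := charZero H hH
  set φ : H →* D := (Units.coeHom D).comp H.subtype with hφ
  have hφi : Function.Injective φ := Units.val_injective.comp H.subtype_injective
  set A := (MonoidAlgebra.lift ℚ D H φ).range
  have hmem : ∀ h : H, φ h ∈ A := fun h => ⟨MonoidAlgebra.of ℚ H h, by simp⟩
  have : FiniteDimensional ℚ (MonoidAlgebra ℚ H) := Module.Finite.of_basis (MonoidAlgebra.basis H ℚ)
  have : FiniteDimensional ℚ A :=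
    Module.Finite.of_surjective (MonoidAlgebra.lift ℚ D H φ).rangeRestrict.toLinearMap
      (MonoidAlgebra.lift ℚ D H φ).rangeRestrict_surjective
  let L : H →* Module.End ℚ A := (Algebra.lmul ℚ A).toMonoidHom.comp (φ.codRestrict A hmem)
  let ρ : H →* Module.End ℂ (ℂ ⊗[ℚ] A) :=
    (Module.End.baseChangeHom ℚ ℂ A).toMonoidHom.comp L
  have hρ : IsLinFPF ρ := by
    intro g hg v hv
    have hinj : Function.Injective ⇑(L g - 1 : Module.End ℚ A) := by
      rw [injective_iff_map_eq_zero]
      intro a ha
      have : (φ g - 1) * (a : D) = 0 := by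
        rw [sub_mul, one_mul]; exact congrArg Subtype.val ha
      rcases mul_eq_zero.1 this with e | e
      · exact absurd (hφi ((sub_eq_zero.1 e).trans (map_one φ).symm)) hg
      · exact Subtype.ext e
    obtain ⟨i, hi⟩ : IsUnit (L g - 1) := by
      rw [LinearMap.isUnit_iff_ker_eq_bot]
      exact LinearMap.ker_eq_bot.2 hinj
    have hu : IsUnit (ρ g - 1) := ⟨Units.map (Module.End.baseChangeHom ℚ ℂ A).toMonoidHom i, by
      rw [Units.coe_map, hi]; simp [ρ]⟩
    obtain ⟨k, hk⟩ := hu.exists_left_inv
    have h1 : (ρ g - 1) v = 0 := by rw [LinearMap.sub_apply, hv, Module.End.one_apply, sub_self]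
    have := LinearMap.congr_fun hk v
    rwa [Module.End.mul_apply, h1, map_zero, Module.End.one_apply, eq_comm] at this
  have : Nontrivial (ℂ ⊗[ℚ] A) := by
    apply Module.nontrivial_of_finrank_pos (R := ℂ)
    rw [Module.finrank_baseChange]
    exact Module.finrank_pos
  obtain ⟨f, hf, hn, h3, M, -, hcom, hco, -, -, hCle, -, hidx⟩ :=
    FpfLinear.NonSolvable.decomposition hρ hH
  set F : SL →* D := φ.comp f with hF
  have hFi : Function.Injective F := hφi.comp hf
  have hN : F sN = -1 := by
    have h2 : F sN * F sN = 1 := by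
      rw [← map_mul, show sN * sN = 1 from quad_injective (by
        rw [quad_mul, sN, quad_ofQuad, quad_one]; decide), map_one]
    refine (mul_self_eq_one_iff.1 h2).resolve_left fun e => ?_
    have := congrArg quad (hFi (e.trans (map_one F).symm))
    rw [sN, quad_ofQuad, quad_one] at this
    exact witness.2.2.2.2.2.2.2.2.2.1 this
  obtain ⟨-, -, hjd, hj2, hvd, hv5, hv1, hjv, -, -⟩ := witness
  have hM : M = ⊥ := by
    by_contra hne
    have hcard : Nat.card M ≠ 1 := fun e => hne (Subgroup.eq_bot_of_card_eq M e)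
    obtain ⟨l, hl, hld⟩ := Nat.exists_prime_and_dvd hcard
    have hl7 : 7 ≤ l := by
      have h30 : ¬ l ∣ 30 := fun e => hl.ne_one (Nat.eq_one_of_dvd_coprimes hco hld e)
      by_contra hlt
      have h235 : l = 2 ∨ l = 3 ∨ l = 5 := by interval_cases l <;> first | omega | norm_num at hl
      rcases h235 with rfl | rfl | rfl <;> exact h30 (by norm_num)
    have := Fact.mk hl
    obtain ⟨m, hm⟩ := exists_prime_orderOf_dvd_card' l hld
    set vS := ofQuad _ hvd with hvS
    set jS := ofQuad _ hjd with hjS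
    have hmc : ∀ u : SL, Commute (φ m) (F u) := fun u =>
      show φ m * φ (f u) = φ (f u) * φ m by rw [← map_mul, ← map_mul, hcom (f u) ⟨u, rfl⟩ m m.2]
    have hv5' : vS ^ 5 = 1 := quad_injective (by rw [quad_five, quad_ofQuad, quad_one]; exact hv5)
    have hv1' : F vS ≠ 1 := fun e => hv1 (by
      have := congrArg quad (hFi (e.trans (map_one F).symm))
      rwa [quad_ofQuad, quad_one] at this)
    have hjv' : jS * vS = vS ^ 4 * jS := by
      rw [show vS ^ 4 = vS * vS * (vS * vS) by rw [pow_succ, pow_succ, pow_succ, pow_one]; group]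
      apply quad_injective
      simp only [quad_mul, hvS, hjS, quad_ofQuad]
      exact hjv.symm
    have hjw' : jS * vS ^ 4 = vS * jS := by
      have h1 : vS ^ 4 = vS⁻¹ := eq_inv_of_mul_eq_one_left (by rw [← pow_succ, hv5'])
      rw [h1] at hjv' ⊢
      rw [mul_inv_eq_iff_eq_mul, mul_assoc, hjv', mul_inv_cancel_left]
    refine no_prime (j := F jS) (v := F vS) (w := F (vS ^ 4)) (z := φ m) hl hl7 ?_ ?_ ?_ ?_
      (by rw [← map_mul, ← map_mul, hjv']) (by rw [← map_mul, ← map_mul, hjw'])
      (hmc _) (hmc _) (hmc _) ?_ ?_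
    · rw [← map_mul, ← hN]
      congr 1
      apply quad_injective
      rw [quad_mul, sN, quad_ofQuad, quad_ofQuad]
      exact hj2
    · rw [← map_mul, ← pow_succ', hv5', map_one]
    · rw [← map_mul, ← pow_succ, hv5', map_one]
    · have h5 : (F vS) ^ 5 = 1 := by rw [← map_pow, hv5', map_one]
      have hg := mul_geom_sum (F vS) 5
      rw [h5, sub_self, mul_eq_zero] at hg
      have hg' := hg.resolve_left (sub_ne_zero.2 hv1')
      simp only [Finset.sum_range_succ, Finset.sum_range_zero, pow_zero, pow_one, zero_add] at hg'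
      rw [map_pow, ← pow_add, show 4 + 4 = 5 + 3 from rfl, pow_add, h5, one_mul, ← sq]
      exact hg'
    · rw [← map_pow, ← SubmonoidClass.coe_pow, ← hm, pow_orderOf_eq_one, OneMemClass.coe_one,
        map_one]
    · intro e
      have := hφi (e.trans (map_one φ).symm)
      rw [show m = 1 from Subtype.ext this, orderOf_one] at hm
      exact hl.ne_one hm.symm
  subst hM
  rw [sup_bot_eq] at hCle hidx
  have htop : f.range = ⊤ := by
    rcases hidx with e | e
    · exact Subgroup.index_eq_one.1 e
    exfalso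
    obtain ⟨g, hg⟩ : ∃ g, g ∉ f.range := by
      by_contra! hall
      rw [(Subgroup.eq_top_iff' _).2 hall, Subgroup.index_top] at e
      omega
    have hNc : ∀ g : H, f sN * g = g * f sN := by
      intro g
      apply hφi
      rw [map_mul, map_mul, show φ (f sN) = -1 from hN, neg_one_mul, mul_neg_one]
    obtain ⟨g', hg', hgx, hgy⟩ := exists_outer f hf h3 hNc hCle hg
    obtain ⟨u, hu⟩ := Subgroup.sq_mem_of_index_two e g'
    have hux : u * sX = sX * u := hf (by
      rw [map_mul, map_mul, hu]
      exact (((show Commute g' (f sX) from mul_inv_eq_iff_eq_mul.1 hgx).pow_left 2)).eq)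
    have hu3 : u ^ 3 = 1 ∨ u ^ 3 = sN := by
      have h1 := congrArg quad hux
      rw [quad_mul, quad_mul, sX, quad_ofQuad] at h1
      rcases commutator_two_order _ _ _ _ (quad_det u) h1 with h2 | h2
      · exact Or.inl (quad_injective (by rw [quad_three, quad_one]; exact h2))
      · exact Or.inr (quad_injective (by rw [quad_three, sN, quad_ofQuad]; exact h2))
    have hh2 : (g' ^ 3) ^ 2 = f (u ^ 3) := by rw [map_pow, hu, ← pow_mul, ← pow_mul]
    have hodd : g' ^ 3 ∉ f.range := by
      intro hm
      apply hg'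
      rw [show g' = g' ^ 3 * (g' ^ 2)⁻¹ by group]
      exact mul_mem hm (inv_mem ⟨u, hu⟩)
    have hh : φ (g' ^ 3) * φ (g' ^ 3) = -1 := by
      rcases hu3 with e3 | e3
      · exfalso
        apply hodd
        have h1 : φ (g' ^ 3) * φ (g' ^ 3) = 1 := by
          rw [← map_mul, ← sq, hh2, e3, map_one, map_one]
        rcases mul_self_eq_one_iff.1 h1 with h4 | h4
        · rw [hφi (h4.trans (map_one φ).symm)]; exact one_mem _
        · exact ⟨sN, hφi (hN.trans h4.symm)⟩
      · rw [← map_mul, ← sq, hh2, e3]; exact hN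
    -- the action on `C`
    set y2 : SL := ofQuad gen2 (by decide) with hy2
    set a := g' with ha
    have hk : ∀ p p' : H, a * p * a⁻¹ = p' → φ a * φ p = φ p' * φ a := by
      intro p p' hp
      rw [← map_mul, ← map_mul, ← hp, inv_mul_cancel_right]
    have hP : a * f (sX * sY) * a⁻¹ = f (sX * y2) := by
      rw [map_mul, map_mul, ← hgy]
      nth_rewrite 2 [← hgx]
      group
    have hPi : a * f (sX * sY)⁻¹ * a⁻¹ = f (sX * y2)⁻¹ := by
      rw [map_inv, map_inv, ← hP]; group
    set C := F (sX * sY) + F (sX * sY)⁻¹ with hC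
    set C' := F (sX * y2) + F (sX * y2)⁻¹ with hC'
    have h1 : φ a * C = C' * φ a := by
      rw [hC, hC', mul_add, add_mul]
      exact congrArg₂ (· + ·) (hk _ _ hP) (hk _ _ hPi)
    have h2 : φ a * φ a * C = C * (φ a * φ a) := by
      rw [← map_mul, ← sq, ← hu]
      exact (cc_commute hFi u).symm.eq
    refine not_outer hFi hN hh ?_
    show φ (a ^ 3) * C = C' * φ (a ^ 3)
    rw [show φ (a ^ 3) = φ a * (φ a * φ a) by rw [pow_three, map_mul, map_mul], mul_assoc (φ a) _ C,
      h2, ← mul_assoc, h1, mul_assoc]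
  exact ⟨(MulEquiv.ofBijective f ⟨hf, MonoidHom.range_eq_top.1 htop⟩).symm⟩

end Ring

end Cfsg.Agent.Lib.DivisionUnits.Main
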